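import Cfsg.Agent.Lib.Fusion.PSU3.Setup

/-!
# The semidihedral and wreathed 2-subgroups of `PSU₃(q)`, `q` odd; simplicity
-/

set_option autoImplicit false

open Cfsg Cfsg.FusionSystem CfsgLib.Invol.QDW Matrix CfsgLib.UnitarySpec

namespace CfsgLib.Fusion.PSU3

variable {F : Type*} [Field F] [Fintype F] {q : ℕ}

theorem exists_elt_order (hq : Fintype.card F = q ^ 2) {N : ℕ} (hN : N ∣ q ^ 2 - 1) (hN0 : N ≠ 0) :
    ∃ a : Fˣ, orderOf a = N := by
  obtain ⟨g, hg⟩ := IsCyclic.exists_ofOrder_eq_natCard (α := Fˣ)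
  have hc : Nat.card Fˣ = q ^ 2 - 1 := by
    classical
    rw [Nat.card_eq_fintype_card, Fintype.card_units, hq]
  obtain ⟨m, hm⟩ := hN
  have h0 : 0 < orderOf g := orderOf_pos g
  refine ⟨g ^ m, ?_⟩
  rw [hg, hc, hm] at h0
  have hm0 : m ≠ 0 := fun e => by simp [e] at h0
  rw [orderOf_pow' g hm0, hg, hc, hm, Nat.gcd_eq_right (Dvd.intro_left N rfl),
    Nat.mul_div_cancel _ (Nat.pos_of_ne_zero hm0)]

theorem sq_sub_one_eq (hq1 : 1 ≤ q) : q ^ 2 - 1 = (q - 1) * (q + 1) := by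
  obtain ⟨m, rfl⟩ : ∃ m, q = m + 1 := ⟨q - 1, by omega⟩
  rw [Nat.add_sub_cancel, show (m + 1) ^ 2 = m * (m + 1 + 1) + 1 by ring, Nat.add_sub_cancel]

omit [Fintype F] in
theorem pow_half_eq_neg_one {a : Fˣ} {A : ℕ} (ha : orderOf a = 2 ^ (A + 1)) :
    (a : F) ^ 2 ^ A = -1 := by
  have h1 : ((a : F) ^ 2 ^ A) ^ 2 = 1 := by
    rw [← pow_mul, ← pow_succ, ← ha, ← Units.val_pow_eq_pow_val, pow_orderOf_eq_one, Units.val_one]
  refine (sq_eq_one_iff.mp h1).resolve_left fun h => ?_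
  have h2 : orderOf a ∣ 2 ^ A := orderOf_dvd_of_pow_eq_one (Units.ext (by simpa using h))
  rw [ha, Nat.pow_dvd_pow_iff_le_right (by norm_num)] at h2
  omega

theorem wr_case (hq : Fintype.card F = q ^ 2) (h3 : q % 4 = 3) (S : Sylow 2 (Cfsg.PSU 3 F q)) :
    (groupFusionSystem (S : Subgroup (Cfsg.PSU 3 F q))).IsSimple 2 := by
  have h2 : (2 : F) ≠ 0 := CfsgLib.Classical.two_ne_zero_of_odd_card (by
    rw [hq]; exact (Nat.odd_iff.mpr (by omega)).pow)
  obtain ⟨σ, hσ, hinv, hne⟩ := CfsgLib.Transvec.Unitary.exists_frob hq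
  obtain ⟨b, v, hv, hb⟩ := Nat.exists_eq_two_pow_mul_odd (show q + 1 ≠ 0 by omega)
  obtain ⟨r, rfl⟩ : ∃ r, b = r + 2 := by
    refine ⟨b - 2, ?_⟩
    rcases b with - | - | b
    · rw [pow_zero, one_mul] at hb; have := Nat.odd_iff.mp hv; omega
    · rw [pow_one] at hb; have := Nat.odd_iff.mp hv; omega
    · omega
  have hu : Odd ((q - 1) / 2) := Nat.odd_iff.mpr (by omega)
  have hnd := not_dvd_card (F := F) hq (by omega) hu hv
    (show q - 1 = 2 ^ 1 * ((q - 1) / 2) by omega) hb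
  haveI : NeZero (2 ^ (r + 2)) := ⟨by positivity⟩
  obtain ⟨a, ha⟩ := exists_elt_order (F := F) hq (N := 2 ^ (r + 2)) (by
    rw [sq_sub_one_eq (by omega)]
    exact Dvd.dvd.mul_left ⟨v, hb⟩ _) (by positivity)
  have hσa : σ (a : F) = (a : F)⁻¹ := by
    refine eq_inv_of_mul_eq_one_left ?_
    rw [hσ, ← pow_succ, hb, pow_mul, ← ha, ← Units.val_pow_eq_pow_val, pow_orderOf_eq_one,
      Units.val_one, one_pow]
  have ha0 : (a : F) ≠ 0 := a.ne_zero
  obtain ⟨x, hx⟩ : ∃ x : Cfsg.SU 3 F q, (x.1 : Matrix (Fin 3) (Fin 3) F) =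
      Matrix.diagonal ![(a : F), 1, (a : F)⁻¹] := by
    refine exists_su hσ _ (by simp [Fin.prod_univ_three, ha0]) ?_
    unfold IsU
    ext i j
    fin_cases i <;> fin_cases j <;> simp [Matrix.mul_apply, Fin.sum_univ_three, hσa, ha0]
  obtain ⟨y, hy⟩ : ∃ y : Cfsg.SU 3 F q, (y.1 : Matrix (Fin 3) (Fin 3) F) =
      Matrix.diagonal ![1, (a : F), (a : F)⁻¹] := by
    refine exists_su hσ _ (by simp [Fin.prod_univ_three, ha0]) ?_
    unfold IsU
    ext i j
    fin_cases i <;> fin_cases j <;> simp [Matrix.mul_apply, Fin.sum_univ_three, hσa, ha0]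
  obtain ⟨t, ht⟩ : ∃ t : Cfsg.SU 3 F q, (t.1 : Matrix (Fin 3) (Fin 3) F) =
      !![0, 1, 0; 1, 0, 0; 0, 0, -1] := by
    refine exists_su hσ _ (by simp [Matrix.det_fin_three]) ?_
    unfold IsU
    ext i j
    fin_cases i <;> fin_cases j <;> simp [Matrix.mul_apply, Fin.sum_univ_three]
  have hpx : ∀ n : ℕ, ((x ^ n).1 : Matrix (Fin 3) (Fin 3) F) =
      Matrix.diagonal ![(a : F) ^ n, 1, ((a : F)⁻¹) ^ n] := fun n => by
    rw [su_coe_pow, hx, Matrix.diagonal_pow]
    congr 1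
    ext i
    fin_cases i <;> simp
  have hpy : ∀ n : ℕ, ((y ^ n).1 : Matrix (Fin 3) (Fin 3) F) =
      Matrix.diagonal ![1, (a : F) ^ n, ((a : F)⁻¹) ^ n] := fun n => by
    rw [su_coe_pow, hy, Matrix.diagonal_pow]
    congr 1
    ext i
    fin_cases i <;> simp
  have haN : (a : F) ^ 2 ^ (r + 2) = 1 := by
    rw [← ha, ← Units.val_pow_eq_pow_val, pow_orderOf_eq_one, Units.val_one]
  have hxN : x ^ 2 ^ (r + 2) = 1 := by
    refine ext3' ?_
    rw [hpx, coe_one3, inv_pow, haN, inv_one]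
    ext i j
    fin_cases i <;> fin_cases j <;> simp
  have hyN : y ^ 2 ^ (r + 2) = 1 := by
    refine ext3' ?_
    rw [hpy, coe_one3, inv_pow, haN, inv_one]
    ext i j
    fin_cases i <;> fin_cases j <;> simp
  have hxy : x * y = y * x := by
    refine ext3' ?_
    rw [coe_mul3, coe_mul3, hx, hy, Matrix.diagonal_mul_diagonal, Matrix.diagonal_mul_diagonal]
    congr 1
    ext i
    exact mul_comm _ _
  have htt : t * t = 1 := by
    refine ext3' ?_
    rw [coe_mul3, coe_one3, ht]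
    ext i j
    fin_cases i <;> fin_cases j <;> simp [Matrix.mul_apply, Fin.sum_univ_three]
  have htx : t * x * t⁻¹ = y := by
    rw [inv_eq_of_mul_eq_one_right htt]
    refine ext3' ?_
    rw [coe_mul3, coe_mul3, ht, hx, hy,
      show Matrix.diagonal ![(a : F), 1, (a : F)⁻¹] = !![(a : F), 0, 0; 0, 1, 0; 0, 0, (a : F)⁻¹] by
        ext i j; fin_cases i <;> fin_cases j <;> simp]
    ext i j
    fin_cases i <;> fin_cases j <;> simp [Matrix.mul_apply, Fin.sum_univ_three]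
  refine isSimple_of_wr hq (by omega) (psuMk.comp (Wr.lift x y t hxN hyN hxy htt htx)) ?_
    (by convert hnd using 3; omega) S
  rw [MonoidHom.comp_apply]
  refine not_mem_center hq h2 ?_
  have hval : (Wr.hf r : ZMod (2 ^ (r + 2))).val = 2 ^ (r + 1) := by
    rw [show (Wr.hf r : ZMod (2 ^ (r + 2))) = ((2 ^ (r + 1) : ℕ) : ZMod (2 ^ (r + 2))) by
      rw [Wr.hf]; push_cast; rfl]
    exact ZMod.val_cast_of_lt (Nat.pow_lt_pow_right (by norm_num) (by omega))
  rw [Wr.lift_apply]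
  simp only [Wr.zW, cond_false, mul_one]
  rw [hval, coe_mul3, hpx, hpy, Matrix.diagonal_mul_diagonal, inv_pow,
    pow_half_eq_neg_one (A := r + 1) ha]
  ext i j
  fin_cases i <;> fin_cases j <;> simp

theorem sd_case (hq : Fintype.card F = q ^ 2) (h1 : q % 4 = 1) (S : Sylow 2 (Cfsg.PSU 3 F q)) :
    (groupFusionSystem (S : Subgroup (Cfsg.PSU 3 F q))).IsSimple 2 := by
  have h2 : (2 : F) ≠ 0 := CfsgLib.Classical.two_ne_zero_of_odd_card (by
    rw [hq]; exact (Nat.odd_iff.mpr (by omega)).pow)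
  obtain ⟨σ, hσ, hinv, hne⟩ := CfsgLib.Transvec.Unitary.exists_frob hq
  have hq5 : 5 ≤ q := by
    have h4 : 1 < Fintype.card F := Fintype.one_lt_card
    rw [hq] at h4
    by_contra hlt
    rw [show q = 1 by omega] at h4
    norm_num at h4
  obtain ⟨A, u, hu, hA⟩ := Nat.exists_eq_two_pow_mul_odd (show q - 1 ≠ 0 by omega)
  obtain ⟨k, rfl⟩ : ∃ k, A = k + 2 := by
    refine ⟨A - 2, ?_⟩
    rcases A with - | - | A
    · rw [pow_zero, one_mul] at hA; have := Nat.odd_iff.mp hu; omega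
    · rw [pow_one] at hA; have := Nat.odd_iff.mp hu; omega
    · omega
  have hv : Odd ((q + 1) / 2) := Nat.odd_iff.mpr (by omega)
  have hnd := not_dvd_card (F := F) hq (by omega) hu hv hA
    (show q + 1 = 2 ^ 1 * ((q + 1) / 2) by omega)
  obtain ⟨a, ha⟩ := exists_elt_order (F := F) hq (N := 2 ^ (k + 3)) (by
    rw [sq_sub_one_eq (by omega), pow_succ]
    exact Nat.mul_dvd_mul ⟨u, hA⟩ (by omega)) (by positivity)
  have hA1 : (a : F) ^ 2 ^ (k + 2) = -1 := pow_half_eq_neg_one (A := k + 2) ha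
  have hσa : σ (a : F) = -(a : F) := by
    rw [hσ, show q = 2 ^ (k + 2) * u + 1 by omega, pow_succ, pow_mul, hA1, hu.neg_one_pow,
      neg_one_mul]
  obtain ⟨e, hee, hσe⟩ : ∃ e : F, e * e = -1 ∧ σ e = e := by
    refine ⟨(a : F) ^ 2 ^ (k + 1), by rw [← pow_add, ← two_mul, ← pow_succ', hA1], ?_⟩
    rw [map_pow, hσa, Even.neg_pow ((Nat.even_pow' (by omega)).mpr even_two)]
  have ha0 : (a : F) ≠ 0 := a.ne_zero
  let mat : F → F → Matrix (Fin 3) (Fin 3) F := fun l m =>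
    !![(l + m) / 2, -e * (l - m) / 2, 0; e * (l - m) / 2, (l + m) / 2, 0; 0, 0, (l * m)⁻¹]
  have hmul : ∀ l m l' m' : F, mat l m * mat l' m' = mat (l * l') (m * m') := by
    intro l m l' m'
    ext i j
    fin_cases i <;> fin_cases j <;> simp [mat, Matrix.mul_apply, Fin.sum_univ_three]
    · field_simp; linear_combination (-(l - m) * (l' - m')) * hee
    · field_simp; ring
    · field_simp; ring
    · field_simp; linear_combination (-(l - m) * (l' - m')) * hee
    · ring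
  obtain ⟨μ, hμ⟩ : ∃ μ : F, μ = -(a : F)⁻¹ := ⟨_, rfl⟩
  have hμ0 : μ ≠ 0 := hμ ▸ neg_ne_zero.mpr (inv_ne_zero ha0)
  have hlm : (a : F) * μ = -1 := by rw [hμ]; field_simp
  obtain ⟨x, hx⟩ : ∃ x : Cfsg.SU 3 F q, (x.1 : Matrix (Fin 3) (Fin 3) F) = mat (a : F) μ := by
    refine exists_su hσ _ ?_ ?_
    · simp only [mat, Matrix.det_fin_three]
      simp [hlm]
      field_simp
      linear_combination (-((a : F) - μ) * ((a : F) - μ)) * hee + (-4 : F) * hlm
    · unfold IsU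
      have hσμ : σ μ = -μ := by rw [hμ, map_neg, map_inv₀, hσa, inv_neg]
      have hσ2 : σ (2 : F) = 2 := map_ofNat σ 2
      have hlm' : μ⁻¹ * (a : F)⁻¹ = -1 := by rw [← _root_.mul_inv_rev, hlm, inv_neg, inv_one]
      ext i j
      fin_cases i <;> fin_cases j <;>
        simp [mat, Matrix.mul_apply, Fin.sum_univ_three, hσa, hσμ, hσe, hσ2, map_div₀, hlm']
      · field_simp; linear_combination (-((a : F) - μ) * ((a : F) - μ)) * hee + (-4 : F) * hlm
      · ring
      · ring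
      · field_simp; linear_combination (-((a : F) - μ) * ((a : F) - μ)) * hee + (-4 : F) * hlm
  obtain ⟨y, hy⟩ : ∃ y : Cfsg.SU 3 F q, (y.1 : Matrix (Fin 3) (Fin 3) F) =
      Matrix.diagonal ![1, -1, -1] := by
    refine exists_su hσ _ (by simp [Fin.prod_univ_three]) ?_
    unfold IsU
    ext i j
    fin_cases i <;> fin_cases j <;> simp [Matrix.mul_apply, Fin.sum_univ_three]
  have hpx : ∀ n : ℕ, ((x ^ n).1 : Matrix (Fin 3) (Fin 3) F) = mat ((a : F) ^ n) (μ ^ n) := by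
    intro n
    induction n with
    | zero =>
      rw [pow_zero, coe_one3]
      ext i j
      fin_cases i <;> fin_cases j <;> simp [mat]
      all_goals field_simp
      all_goals ring
    | succ n ih => rw [pow_succ, coe_mul3, ih, hx, hmul, ← pow_succ, ← pow_succ]
  have hμA : μ ^ 2 ^ (k + 2) = -1 := by
    rw [hμ, Even.neg_pow ((Nat.even_pow' (by omega)).mpr even_two), inv_pow, hA1, inv_neg, inv_one]
  have hxN : x ^ 2 ^ (k + 3) = 1 := by
    refine ext3' ?_
    rw [hpx, coe_one3, pow_succ 2 (k + 2), pow_mul, hA1, pow_mul, hμA]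
    ext i j
    fin_cases i <;> fin_cases j <;> simp [mat]
    all_goals field_simp
    all_goals ring
  have hyy : y * y = 1 := by
    refine ext3' ?_
    rw [coe_mul3, coe_one3, hy, Matrix.diagonal_mul_diagonal]
    ext i j
    fin_cases i <;> fin_cases j <;> simp
  have hconj : y * x * y⁻¹ = x ^ (half k - 1) := by
    rw [inv_eq_of_mul_eq_one_right hyy]
    refine ext3' ?_
    have hp : ∀ w : F, w ≠ 0 → w ^ 2 ^ (k + 2) = -1 → w ^ (half k - 1) = -w⁻¹ := by
      intro w hw hwA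
      have h1 : w ^ (half k - 1) * w = -1 := by
        rw [← pow_succ, Nat.sub_add_cancel (show 1 ≤ half k from Nat.one_le_two_pow)]
        exact hwA
      field_simp
      linear_combination h1
    rw [coe_mul3, coe_mul3, hpx, hp _ ha0 hA1, hp _ hμ0 hμA, hy, hx,
      show -μ⁻¹ = (a : F) by rw [hμ, inv_neg, inv_inv, neg_neg]]
    ext i j
    fin_cases i <;> fin_cases j <;> simp [mat, Matrix.mul_apply, Fin.sum_univ_three, hμ]
    all_goals field_simp
    all_goals ring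
  refine isSimple_of_sd hq (by omega) (psuMk.comp (Sd.lift x y hxN hyy hconj)) ?_
    (by convert hnd using 3) S
  rw [MonoidHom.comp_apply]
  refine not_mem_center hq h2 ?_
  have hval : ((half k : ℕ) : ZMod (2 ^ (k + 3))).val = 2 ^ (k + 2) :=
    ZMod.val_cast_of_lt (Nat.pow_lt_pow_right (by norm_num) (by omega))
  rw [Sd.lift_apply]
  simp only [Sd.zS, cond_false, mul_one]
  rw [hval, hpx, hA1, hμA]
  ext i j
  fin_cases i <;> fin_cases j <;> simp [mat]
  all_goals field_simp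
  all_goals ring

/-- The 2-fusion system of `PSU₃(q)`, `q` odd, is simple. -/
theorem isSimple (hq : Fintype.card F = q ^ 2) (hodd : q % 2 = 1) (S : Sylow 2 (Cfsg.PSU 3 F q)) :
    (groupFusionSystem (S : Subgroup (Cfsg.PSU 3 F q))).IsSimple 2 := by
  rcases (show q % 4 = 1 ∨ q % 4 = 3 by omega) with h | h
  · exact sd_case hq h S
  · exact wr_case hq h S

end CfsgLib.Fusion.PSU3
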