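import Cfsg.Agent.Lib.Fusion.SdWrSimple
import Cfsg.Agent.Lib.PGroup.Basic
import Cfsg.Agent.Lib.KnownSimple.Unitary.Basic
import Cfsg.Agent.Lib.Classical.UnitaryPSU
import Cfsg.Agent.Lib.Classical.FiniteFieldSq

/-!
# Sylow 2-subgroups of `PSU₃(q)`, `q` odd: from a model subgroup to simplicity
-/

set_option autoImplicit false

open Cfsg Cfsg.FusionSystem CfsgLib.Invol.QDW Matrix

namespace CfsgLib.Fusion.PSU3

variable {F : Type*} [Field F] [Fintype F] {q : ℕ}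

omit [Fintype F] in
theorem ext3' {g h : Cfsg.SU 3 F q}
    (e : (g.1 : Matrix (Fin 3) (Fin 3) F) = (h.1 : Matrix (Fin 3) (Fin 3) F)) : g = h :=
  Subtype.ext (Subtype.ext e)

omit [Fintype F] in
theorem coe_mul3 (g h : Cfsg.SU 3 F q) :
    ((g * h).1 : Matrix (Fin 3) (Fin 3) F) =
      (g.1 : Matrix (Fin 3) (Fin 3) F) * (h.1 : Matrix (Fin 3) (Fin 3) F) := rfl

omit [Fintype F] in
theorem coe_one3 : ((1 : Cfsg.SU 3 F q).1 : Matrix (Fin 3) (Fin 3) F) = 1 := rfl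

/-- An element `diag(-1,-1,1)` is not central. -/
theorem not_mem_center (hq : Fintype.card F = q ^ 2) (h2 : (2 : F) ≠ 0) {g : Cfsg.SU 3 F q}
    (hg : (g.1 : Matrix (Fin 3) (Fin 3) F) = !![-1, 0, 0; 0, -1, 0; 0, 0, 1]) :
    CfsgLib.UnitarySpec.psuMk g ≠ 1 := by
  intro h
  have hc : g ∈ Subgroup.center (Cfsg.SU 3 F q) := (QuotientGroup.eq_one_iff g).mp h
  obtain ⟨σ, hσ, hinv, hne⟩ := CfsgLib.Transvec.Unitary.exists_frob hq
  have hodd : σ (1 : F) = 1 := map_one σ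
  obtain ⟨c, hc'⟩ : ∃ c : Cfsg.SU 3 F q,
      (c.1 : Matrix (Fin 3) (Fin 3) F) = !![0, 1, 0; 0, 0, 1; 1, 0, 0] := by
    refine CfsgLib.UnitarySpec.exists_su hσ _ (by simp [Matrix.det_fin_three]) ?_
    unfold CfsgLib.UnitarySpec.IsU
    ext i j
    fin_cases i <;> fin_cases j <;> simp [Matrix.mul_apply, Fin.sum_univ_three]
  have := congrArg (fun x : Cfsg.SU 3 F q => (x.1 : Matrix (Fin 3) (Fin 3) F) 1 2)
    (Subgroup.mem_center_iff.mp hc c)
  simp only [coe_mul3, hg, hc'] at this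
  simp [Matrix.mul_apply, Fin.sum_univ_three] at this
  exact h2 (by linear_combination this)

theorem injective_of_one_involution {M G : Type*} [Group M] [Finite M] [Group G]
    (hM : IsPGroup 2 M) (π : M →* G) {z : M}
    (hz : ∀ x ∈ Subgroup.center M, orderOf x = 2 → x = z) (hπ : π z ≠ 1) :
    Function.Injective π := by
  haveI : Fact (Nat.Prime 2) := ⟨Nat.prime_two⟩
  rw [← MonoidHom.ker_eq_bot_iff]
  by_contra h
  have hne : π.ker ⊓ Subgroup.center M ≠ ⊥ := CfsgLib.PGroup.inf_center_ne_bot hM π.ker h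
  obtain ⟨j, hj⟩ := IsPGroup.iff_card.mp (hM.to_subgroup (π.ker ⊓ Subgroup.center M))
  obtain ⟨x, hx⟩ := exists_prime_orderOf_dvd_card' (G := (π.ker ⊓ Subgroup.center M : Subgroup M)) 2 (by
    rcases j with - | j
    · rw [pow_zero, Subgroup.card_eq_one] at hj; exact absurd hj hne
    · exact hj ▸ dvd_pow_self 2 (Nat.succ_ne_zero j))
  have := hz x.1 x.2.2 (by rw [Subgroup.orderOf_coe, hx])
  exact hπ (this ▸ x.2.1)

theorem card_psu (hq : Fintype.card F = q ^ 2) :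
    Nat.gcd 3 (q + 1) * Nat.card (Cfsg.PSU 3 F q) = q ^ 3 * ((q ^ 2 - 1) * (q ^ 3 + 1)) := by
  have h := CfsgLib.Classical.card_su (n := 3) hq (by norm_num)
  rw [Subgroup.card_eq_card_quotient_mul_card_subgroup (Subgroup.center (Cfsg.SU 3 F q)),
    CfsgLib.Classical.card_center_su hq (by norm_num), CfsgLib.Classical.unitaryOrder,
    Finset.prod_range_succ,
    Finset.prod_range_succ, Finset.prod_range_one] at h
  simp only [show Even 0 from Even.zero, show ¬ Even 1 from Nat.not_even_one,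
    show Even 2 from even_two, if_true, if_false] at h
  refine Nat.eq_of_mul_eq_mul_left (show 0 < q + 1 by omega) ?_
  refine Eq.trans ?_ (h.trans ?_)
  · ring
  · norm_num; ring

/-- A model subgroup of full 2-part gives simplicity. -/
theorem not_dvd_card (hq : Fintype.card F = q ^ 2) (hodd : q % 2 = 1) {a b : ℕ} {u v : ℕ}
    (hu : Odd u) (hv : Odd v) (h1 : q - 1 = 2 ^ a * u) (h2 : q + 1 = 2 ^ b * v) :
    ¬ 2 ^ (a + 2 * b + 1) ∣ Nat.card (Cfsg.PSU 3 F q) := by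
  intro hd
  obtain ⟨d, hd⟩ := hd
  have hc := card_psu hq
  rw [hd] at hc
  obtain ⟨m, rfl⟩ : ∃ m, q = m + 1 := ⟨q - 1, by omega⟩
  have e1 : (m + 1) ^ 2 - 1 = 2 ^ (a + b) * (u * v) := by
    rw [show (m + 1) ^ 2 - 1 = (m + 1 - 1) * (m + 1 + 1) by
      rw [Nat.add_sub_cancel, show (m + 1) ^ 2 = m * (m + 1 + 1) + 1 by ring, Nat.add_sub_cancel],
      h1, h2]
    ring
  obtain ⟨w, hw, hw'⟩ : ∃ w, Odd w ∧ (m + 1) ^ 3 + 1 = 2 ^ b * (v * w) := by
    refine ⟨m * (m + 1) + 1, (Nat.even_mul_succ_self m).add_one, ?_⟩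
    rw [← mul_assoc, ← h2]; ring
  rw [e1, hw'] at hc
  have hq3 : Odd ((m + 1) ^ 3) := (Nat.odd_iff.mpr hodd).pow
  have : Odd (2 * (Nat.gcd 3 (m + 1 + 1) * d)) := by
    have e : 2 * (Nat.gcd 3 (m + 1 + 1) * d) = (m + 1) ^ 3 * (u * v * (v * w)) := by
      refine Nat.eq_of_mul_eq_mul_left (show 0 < 2 ^ (a + 2 * b) by positivity) ?_
      calc 2 ^ (a + 2 * b) * (2 * (Nat.gcd 3 (m + 1 + 1) * d))
          = Nat.gcd 3 (m + 1 + 1) * (2 ^ (a + 2 * b + 1) * d) := by ring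
        _ = _ := by rw [hc]; ring
    rw [e]
    exact hq3.mul ((hu.mul hv).mul (hv.mul hw))
  exact absurd (even_two_mul _) (Nat.not_even_iff_odd.mpr this)

theorem exists_sylow_model {M G : Type*} [Group M] [Finite M] [Group G] [Finite G] (ι₀ : M →* G)
    (hι : Function.Injective ι₀) {j : ℕ} (hcard : Nat.card M = 2 ^ j)
    (hnd : ¬ 2 ^ (j + 1) ∣ Nat.card G) (S : Sylow 2 G) :
    ∃ ι : M →* G, Function.Injective ι ∧ ι.range = (S : Subgroup G) := by
  haveI : Fact (Nat.Prime 2) := ⟨Nat.prime_two⟩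
  have hc : Nat.card ι₀.range = 2 ^ j := by
    rw [← hcard]; exact (Nat.card_congr (MonoidHom.ofInjective hι).toEquiv).symm
  have hi : ¬ 2 ∣ ι₀.range.index := fun hd => hnd (by
    rw [← ι₀.range.card_mul_index, hc, pow_succ]
    exact Nat.mul_dvd_mul_left _ hd)
  obtain ⟨k, hk⟩ := MulAction.exists_smul_eq G ((IsPGroup.of_card hc).toSylow hi) S
  refine ⟨(MulAut.conj k).toMonoidHom.comp ι₀, (MulAut.conj k).injective.comp hι, ?_⟩
  rw [MonoidHom.range_comp, ← hk]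
  rfl

theorem no_index_two (hq : Fintype.card F = q ^ 2) (h3 : 3 ≤ q) {M : Type*} [Group M] [Finite M]
    (ι : M →* Cfsg.PSU 3 F q) (hι : Function.Injective ι) (hM : 4 ≤ Nat.card M)
    (H : Subgroup (Cfsg.PSU 3 F q)) : H.index ≠ 2 := by
  intro h
  haveI := CfsgLib.Classical.Unitary.isSimpleGroup_PSU (n := 3) hq le_rfl (by omega)
  haveI := Subgroup.normal_of_index_eq_two h
  rcases Subgroup.Normal.eq_bot_or_eq_top (H := H) inferInstance with e | e
  · rw [e, Subgroup.index_bot] at h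
    have := Nat.card_le_card_of_injective ι hι
    omega
  · rw [e, Subgroup.index_top] at h; omega

theorem isSimple_of_wr (hq : Fintype.card F = q ^ 2) (h3 : 3 ≤ q) {r : ℕ}
    (ι₀ : Wr (2 ^ (r + 2)) →* Cfsg.PSU 3 F q) (hι : ι₀ (Wr.zW r) ≠ 1)
    (hnd : ¬ 2 ^ (2 * r + 6) ∣ Nat.card (Cfsg.PSU 3 F q)) (S : Sylow 2 (Cfsg.PSU 3 F q)) :
    (groupFusionSystem (S : Subgroup (Cfsg.PSU 3 F q))).IsSimple 2 := by
  haveI : NeZero (2 ^ (r + 2)) := ⟨by positivity⟩
  have hcard : Nat.card (Wr (2 ^ (r + 2))) = 2 ^ (2 * r + 5) := by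
    rw [Wr.card_eq, ← pow_add, ← pow_succ']; congr 1; ring
  have hinj : Function.Injective ι₀ := by
    refine injective_of_one_involution Wr.isPGroup_wr ι₀ (fun x hx h2 => ?_) hι
    rcases Wr.involution_cases h2 with h | h | h
    · exact h
    · obtain ⟨u, hu⟩ := _root_.isConj_iff.mp h
      rw [Subgroup.mem_center_iff.mp hx u, mul_inv_cancel_right] at hu
      exact absurd ((Wr.mem_center_iff Wr.two_le_N).mp hx).2 (hu ▸ fun h => Wr.hf_ne_zero h)
    · have := Wr.e_eq_of_isConj h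
      rw [((Wr.mem_center_iff Wr.two_le_N).mp hx).1] at this
      exact Bool.noConfusion this
  obtain ⟨ι, hι', hS⟩ := exists_sylow_model ι₀ hinj hcard hnd S
  refine SdWr.isSimple_wr S ι hι' hS (no_index_two hq h3 ι₀ hinj ?_)
  rw [hcard]
  exact
    (show 2 ^ 2 ≤ 2 ^ (2 * r + 5) from Nat.pow_le_pow_right (by norm_num) (by omega))

theorem isSimple_of_sd (hq : Fintype.card F = q ^ 2) (h3 : 3 ≤ q) {k : ℕ}
    (ι₀ : Sd k →* Cfsg.PSU 3 F q) (hι : ι₀ (Sd.zS k) ≠ 1)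
    (hnd : ¬ 2 ^ (k + 5) ∣ Nat.card (Cfsg.PSU 3 F q)) (S : Sylow 2 (Cfsg.PSU 3 F q)) :
    (groupFusionSystem (S : Subgroup (Cfsg.PSU 3 F q))).IsSimple 2 := by
  have hinj : Function.Injective ι₀ := by
    refine injective_of_one_involution Sd.isPGroup_sd ι₀ (fun x hx h2 => ?_) hι
    obtain ⟨he, hi | hi⟩ := Sd.mem_center_iff.mp hx
    · rw [show x = 1 from Sd.ext hi he, orderOf_one] at h2; omega
    · exact Sd.ext hi he
  obtain ⟨ι, hι', hS⟩ := exists_sylow_model ι₀ hinj (Sd.card_eq (k := k)) hnd S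
  refine SdWr.isSimple_sd S ι hι' hS (no_index_two hq h3 ι₀ hinj ?_)
  rw [Sd.card_eq]
  exact le_trans (by norm_num : 4 ≤ 2 ^ 2) (Nat.pow_le_pow_right (by norm_num) (by omega))

end CfsgLib.Fusion.PSU3
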